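import Groth.Prelude.Def_DeRham
import Mathlib.RingTheory.MvPowerSeries.Derivative
import Mathlib.LinearAlgebra.ExteriorPower.Basis
import Mathlib.LinearAlgebra.CliffordAlgebra.Contraction
import Mathlib.Algebra.CharZero.Defs

/-!
# The formal Poincaré lemma
-/

set_option autoImplicit false

universe u

open Finset

namespace Groth.Agent.FormalPoincareH7

noncomputable section

variable {A M : Type u} [CommRing A] [AddCommGroup M] [Module A M]

/-- Wedge with a vector. -/
def wv (v : M) (q : ℕ) : ↥(⋀[A]^q M) →ₗ[A] ↥(⋀[A]^(q + 1) M) :=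
  LinearMap.codRestrict _ ((LinearMap.mulLeft A (ExteriorAlgebra.ι A v)).comp (Submodule.subtype _)) fun x => by
    show ExteriorAlgebra.ι A v * x.1 ∈ LinearMap.range (ExteriorAlgebra.ι A) ^ (q + 1)
    rw [pow_succ']
    exact Submodule.mul_mem_mul ⟨v, rfl⟩ x.2

theorem wv_coe (v : M) (q : ℕ) (x : ↥(⋀[A]^q M)) :
    (wv v q x : ExteriorAlgebra A M) = ExteriorAlgebra.ι A v * x := rfl

theorem wv_wv (v w : M) (q : ℕ) (x : ↥(⋀[A]^q M)) :
    wv v (q + 1) (wv w q x) = -wv w (q + 1) (wv v q x) := by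
  refine Subtype.ext ?_
  rw [NegMemClass.coe_neg, wv_coe, wv_coe, wv_coe, wv_coe, eq_neg_iff_add_eq_zero, ← mul_assoc, ← mul_assoc,
    ← add_mul, ExteriorAlgebra.ι_add_mul_swap, zero_mul]

theorem wv_smul (a : A) (v : M) (q : ℕ) (x : ↥(⋀[A]^q M)) : wv (a • v) q x = a • wv v q x := by
  refine Subtype.ext ?_
  rw [SetLike.val_smul, wv_coe, wv_coe, map_smul, smul_mul_assoc]

theorem wv_add (v w : M) (q : ℕ) (x : ↥(⋀[A]^q M)) : wv (v + w) q x = wv v q x + wv w q x := by
  refine Subtype.ext ?_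
  rw [Submodule.coe_add, wv_coe, wv_coe, wv_coe, map_add, add_mul]

theorem wv_ιMulti (v : M) (q : ℕ) (m : Fin q → M) :
    wv v q (exteriorPower.ιMulti A q m) = exteriorPower.ιMulti A (q + 1) (Fin.cons v m) := by
  refine Subtype.ext ?_
  rw [wv_coe, exteriorPower.ιMulti_apply_coe, exteriorPower.ιMulti_apply_coe, ExteriorAlgebra.ιMulti_succ_apply,
    Fin.cons_zero]
  rfl

theorem contract_mem (φ : M →ₗ[A] A) : ∀ (q : ℕ) (x : ExteriorAlgebra A M), x ∈ ⋀[A]^(q + 1) M →
    CliffordAlgebra.contractLeft (Q := (0 : QuadraticForm A M)) φ x ∈ ⋀[A]^q M := by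
  intro q
  induction q with
  | zero =>
    intro x hx
    change x ∈ LinearMap.range (ExteriorAlgebra.ι A) ^ (0 + 1) at hx
    rw [zero_add, pow_one] at hx
    obtain ⟨v, rfl⟩ := hx
    show CliffordAlgebra.contractLeft (Q := (0 : QuadraticForm A M)) φ (CliffordAlgebra.ι _ v) ∈ LinearMap.range (ExteriorAlgebra.ι A) ^ 0
    rw [CliffordAlgebra.contractLeft_ι, pow_zero]
    exact Submodule.mem_one.2 ⟨_, rfl⟩
  | succ q ih =>
    intro x hx
    change x ∈ LinearMap.range (ExteriorAlgebra.ι A) ^ (q + 1 + 1) at hx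
    rw [pow_succ'] at hx
    induction hx using Submodule.mul_induction_on' with
    | mem_mul_mem m hm y hy =>
      obtain ⟨v, rfl⟩ := hm
      show CliffordAlgebra.contractLeft (Q := (0 : QuadraticForm A M)) φ (CliffordAlgebra.ι _ v * y) ∈ _
      rw [CliffordAlgebra.contractLeft_ι_mul]
      refine Submodule.sub_mem _ (Submodule.smul_mem _ _ hy) ?_
      show _ ∈ LinearMap.range (ExteriorAlgebra.ι A) ^ (q + 1)
      rw [pow_succ']
      exact Submodule.mul_mem_mul ⟨v, rfl⟩ (ih y hy)
    | add a _ b _ ha hb => rw [map_add]; exact add_mem ha hb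

/-- Contraction with a functional on the graded pieces. -/
def contr (φ : M →ₗ[A] A) (q : ℕ) : ↥(⋀[A]^(q + 1) M) →ₗ[A] ↥(⋀[A]^q M) :=
  LinearMap.codRestrict _ ((CliffordAlgebra.contractLeft (Q := (0 : QuadraticForm A M)) φ).comp (Submodule.subtype _))
    fun x => contract_mem φ q x.1 x.2

theorem contr_coe (φ : M →ₗ[A] A) (q : ℕ) (x : ↥(⋀[A]^(q + 1) M)) :
    (contr φ q x : ExteriorAlgebra A M) = CliffordAlgebra.contractLeft (Q := (0 : QuadraticForm A M)) φ x := rfl

theorem contr_wv (φ : M →ₗ[A] A) (v : M) (q : ℕ) (x : ↥(⋀[A]^(q + 1) M)) :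
    contr φ (q + 1) (wv v (q + 1) x) = φ v • x - wv v q (contr φ q x) := by
  exact Subtype.ext (CliffordAlgebra.contractLeft_ι_mul (Q := (0 : QuadraticForm A M)) (d := φ) v x.1)

theorem contr_wv_zero (φ : M →ₗ[A] A) (v : M) (x : ↥(⋀[A]^0 M)) :
    contr φ 0 (wv v 0 x) = φ v • x := by
  refine Subtype.ext ?_
  rw [SetLike.val_smul, contr_coe, wv_coe]
  have hx0 : x.1 ∈ LinearMap.range (ExteriorAlgebra.ι A (M := M)) ^ 0 := x.2
  rw [pow_zero] at hx0
  obtain ⟨a, ha⟩ := Submodule.mem_one.1 hx0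
  rw [← ha]
  refine (CliffordAlgebra.contractLeft_ι_mul (Q := (0 : QuadraticForm A M)) (d := φ) v _).trans ?_
  rw [show CliffordAlgebra.contractLeft (Q := (0 : QuadraticForm A M)) φ
      (algebraMap A (ExteriorAlgebra A M) a) = 0 from CliffordAlgebra.contractLeft_algebraMap _ _ a,
    mul_zero, sub_zero]

end

noncomputable section

variable {k : Type u} [Field k] [CharZero k] {σ : Type u} [Fintype σ]

local notation "P" => MvPowerSeries σ k
local notation "V" => (σ → MvPowerSeries σ k)

variable (δ : Derivation k (MvPowerSeries σ k) (σ → MvPowerSeries σ k))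
  (hδ : ∀ (f : MvPowerSeries σ k) (i : σ), δ f i = MvPowerSeries.pderiv k i f)
  (d : ∀ p : ℕ, ↥(⋀[MvPowerSeries σ k]^p (σ → MvPowerSeries σ k)) →ₗ[k]
      ↥(⋀[MvPowerSeries σ k]^(p + 1) (σ → MvPowerSeries σ k)))

/-- The Euler functional. -/
def phi : V →ₗ[P] P := ∑ i, (MvPowerSeries.X i : P) • LinearMap.proj i

/-- The Euler operator. -/
def euler (f : P) : P := ∑ i, MvPowerSeries.X i * MvPowerSeries.pderiv k i f

theorem coeff_euler (f : P) (s : σ →₀ ℕ) :
    MvPowerSeries.coeff s (euler f) = (s.degree : k) * MvPowerSeries.coeff s f := by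
  classical
  have hterm : ∀ i, MvPowerSeries.coeff s (MvPowerSeries.X i * MvPowerSeries.pderiv k i f) =
      (s i : k) * MvPowerSeries.coeff s f := by
    intro i
    rw [MvPowerSeries.X, MvPowerSeries.coeff_monomial_mul]
    by_cases h : Finsupp.single i 1 ≤ s
    · rw [if_pos h, one_mul, MvPowerSeries.coeff_pderiv, tsub_add_cancel_of_le h, mul_comm]
      congr 1
      have hi : 1 ≤ s i := by simpa using h i
      rw [Finsupp.tsub_apply, Finsupp.single_eq_same]
      norm_cast
      omega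
    · rw [if_neg h]
      have hi : s i = 0 := by
        by_contra hne
        refine h fun j => ?_
        rcases eq_or_ne j i with rfl | hji
        · rw [Finsupp.single_eq_same]; omega
        · rw [Finsupp.single_eq_of_ne hji]; exact Nat.zero_le _
      rw [hi, Nat.cast_zero, zero_mul]
  rw [euler, map_sum, Finset.sum_congr rfl fun i _ => hterm i, ← Finset.sum_mul, ← Nat.cast_sum]
  congr 2
  rw [Finsupp.degree_apply]
  exact (Finset.sum_subset (Finset.subset_univ _) fun x _ hx => Finsupp.notMem_support_iff.1 hx).symm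

theorem bijective_euler_add (w : ℕ) (hw : 0 < w) :
    Function.Bijective fun f : P => euler f + w • f := by
  have hc : ∀ (f : P) s, MvPowerSeries.coeff s (euler f + w • f) =
      ((s.degree + w : ℕ) : k) * MvPowerSeries.coeff s f := fun f s => by
    rw [map_add, map_nsmul, coeff_euler, nsmul_eq_mul, Nat.cast_add, add_mul]
  have hne : ∀ s : σ →₀ ℕ, ((s.degree + w : ℕ) : k) ≠ 0 := fun s => Nat.cast_ne_zero.2 (by omega)
  constructor
  · intro f g h
    refine MvPowerSeries.ext fun s => ?_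
    have := congrArg (MvPowerSeries.coeff s) h
    rw [hc, hc] at this
    exact mul_left_cancel₀ (hne s) this
  · intro g
    refine ⟨fun s => ((s.degree + w : ℕ) : k)⁻¹ * MvPowerSeries.coeff s g, MvPowerSeries.ext fun s => ?_⟩
    exact (hc (fun s => ((s.degree + w : ℕ) : k)⁻¹ * MvPowerSeries.coeff s g : P) s).trans
      (mul_inv_cancel_left₀ (hne s) _)

include hδ

theorem phi_delta (f : P) : phi (k := k) (δ f) = euler f := by
  simp [phi, euler, hδ, LinearMap.sum_apply]

theorem phi_single [DecidableEq σ] (i : σ) : phi (k := k) (Pi.single i (1 : P) : V) = MvPowerSeries.X i := by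
  simp [phi, LinearMap.sum_apply, Pi.single_apply]

theorem delta_X [DecidableEq σ] (i : σ) : δ (MvPowerSeries.X i) = (Pi.single i (1 : P) : V) := by
  funext j
  rw [hδ]
  rcases eq_or_ne j i with rfl | h
  · rw [Pi.single_eq_same, MvPowerSeries.pderiv_X_self]
  · rw [Pi.single_eq_of_ne h, MvPowerSeries.pderiv_X_of_ne h.symm]

variable (hd : DeRham.IsDiff δ d)

/-- The Lie derivative along the Euler field, in positive degree. -/
def lie (q : ℕ) (z : ↥(⋀[P]^(q + 1) V)) : ↥(⋀[P]^(q + 1) V) :=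
  d q (contr phi q z) + contr phi (q + 1) (d (q + 1) z)

omit hδ in
theorem lie_add (q : ℕ) (a b : ↥(⋀[P]^(q + 1) V)) : lie d q (a + b) = lie d q a + lie d q b := by
  simp only [lie, map_add]; abel

include hd

variable [DecidableEq σ]

theorem d_gen (q : ℕ) (f : P) (κ : Fin q → σ) :
    d q (f • exteriorPower.ιMulti P q (fun a => (Pi.single (κ a) (1 : P) : V))) =
      wv (δ f) q (exteriorPower.ιMulti P q (fun a => (Pi.single (κ a) (1 : P) : V))) := by
  rw [wv_ιMulti]
  have := hd.1 q f (fun a => MvPowerSeries.X (κ a))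
  simp only [DeRham.gen, delta_X δ hδ] at this
  exact this

theorem d_wv_single (i : σ) (q : ℕ) (z : ↥(⋀[P]^q V)) :
    d (q + 1) (wv (Pi.single i (1 : P) : V) q z) = -wv (Pi.single i (1 : P) : V) (q + 1) (d q z) := by
  letI : LinearOrder σ := LinearOrder.lift' _ (Fintype.equivFin σ).injective
  rw [← ((Pi.basisFun P σ).exteriorPower q).sum_repr z, map_sum, map_sum, map_sum, map_sum, ← Finset.sum_neg_distrib]
  refine Finset.sum_congr rfl fun K _ => ?_
  rw [exteriorPower.basis_apply, exteriorPower.ιMulti_family]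
  set κ := Set.powersetCard.ofFinEmbEquiv.symm K
  rw [show (⇑(Pi.basisFun P σ) ∘ ⇑κ) = fun a => (Pi.single (κ a) (1 : P) : V) from funext fun a => Pi.basisFun_apply _ _ _,
    map_smul, d_gen δ hδ d hd, wv_ιMulti]
  have hcons : (Fin.cons (Pi.single i (1 : P) : V) fun a => (Pi.single (κ a) (1 : P) : V)) =
      fun a => (Pi.single ((Fin.cons i κ : Fin (q + 1) → σ) a) (1 : P) : V) := by
    funext a
    refine Fin.cases ?_ (fun b => ?_) a <;> simp
  rw [hcons, d_gen δ hδ d hd, ← hcons, ← wv_ιMulti]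
  exact wv_wv _ _ _ _

set_option maxHeartbeats 800000 in
theorem lie_gen (q : ℕ) : ∀ (f : P) (κ : Fin (q + 1) → σ),
    lie d q (f • exteriorPower.ιMulti P (q + 1) (fun a => (Pi.single (κ a) (1 : P) : V))) =
      (euler f + (q + 1) • f) • exteriorPower.ιMulti P (q + 1) (fun a => (Pi.single (κ a) (1 : P) : V)) := by
  induction q with
  | zero =>
    intro f κ
    set y := exteriorPower.ιMulti P 0 (fun a => (Pi.single ((Fin.tail κ) a) (1 : P) : V)) with hy
    set v : V := Pi.single (κ 0) (1 : P)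
    have hw : exteriorPower.ιMulti P 1 (fun a => (Pi.single (κ a) (1 : P) : V)) = wv v 0 y := by
      rw [hy, wv_ιMulti]; congr 1; funext a; fin_cases a; rfl
    rw [lie, d_gen δ hδ d hd, hw, map_smul, contr_wv_zero, smul_smul, hy, d_gen δ hδ d hd, ← hy, contr_wv, contr_wv_zero,
      phi_delta δ hδ, phi_single δ hδ, map_smul, Derivation.leibniz, delta_X δ hδ, wv_add, wv_smul, wv_smul]
    rw [show (0 + 1) • f = f from one_nsmul f, add_smul]
    abel
  | succ q ih =>
    intro f κ
    set y := exteriorPower.ιMulti P (q + 1) (fun a => (Pi.single ((Fin.tail κ) a) (1 : P) : V)) with hy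
    set v : V := Pi.single (κ 0) (1 : P)
    have hw : exteriorPower.ιMulti P (q + 1 + 1) (fun a => (Pi.single (κ a) (1 : P) : V)) = wv v (q + 1) y := by
      rw [hy, wv_ιMulti]; congr 1; funext a; refine Fin.cases ?_ (fun b => ?_) a <;> simp [v, Fin.tail]
    have e1 : d (q + 1) (contr phi (q + 1) (f • wv v (q + 1) y)) =
        f • wv v (q + 1) y + (MvPowerSeries.X (κ 0) : P) • wv (δ f) (q + 1) y + wv v (q + 1) (d q (contr phi q (f • y))) := by
      rw [map_smul, contr_wv, smul_sub, phi_single δ hδ, smul_smul, map_sub, hy, d_gen δ hδ d hd, ← hy,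
        Derivation.leibniz, delta_X δ hδ, wv_add, wv_smul, wv_smul, ← map_smul (wv v q), d_wv_single δ hδ d hd,
        sub_neg_eq_add, (contr (phi : V →ₗ[P] P) q).map_smul]
    have e2 : contr phi (q + 1 + 1) (d (q + 1 + 1) (f • wv v (q + 1) y)) =
        euler f • wv v (q + 1) y - wv (δ f) (q + 1) ((MvPowerSeries.X (κ 0) : P) • y - wv v q (contr phi q y)) := by
      rw [← hw, d_gen δ hδ d hd, hw, contr_wv, contr_wv, phi_delta δ hδ, phi_single δ hδ]
    have e3 : contr phi (q + 1) (d (q + 1) (f • y)) = euler f • y - wv (δ f) q (contr phi q y) := by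
      rw [hy, d_gen δ hδ d hd, ← hy, contr_wv, phi_delta δ hδ]
    have hi := ih f (Fin.tail κ)
    rw [← hy, lie] at hi
    have h4 : wv v (q + 1) (d q (contr phi q (f • y))) = (euler f + (q + 1) • f) • wv v (q + 1) y -
        (euler f • wv v (q + 1) y - wv v (q + 1) (wv (δ f) q (contr phi q y))) := by
      rw [eq_sub_of_add_eq hi, map_sub, map_smul, e3, map_sub, map_smul]
    rw [lie, hw, e1, e2, h4, map_sub, map_smul, wv_wv v (δ f)]
    simp only [add_nsmul, one_nsmul, add_smul]
    abel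

theorem lie_bijective (q : ℕ) : Function.Bijective (lie d q) := by
  letI : LinearOrder σ := LinearOrder.lift' _ (Fintype.equivFin σ).injective
  let b := (Pi.basisFun P σ).exteriorPower (q + 1)
  have hrep : ∀ z K, b.repr (lie d q z) K = euler (b.repr z K) + (q + 1) • b.repr z K := by
    intro z K
    let L : ↥(⋀[P]^(q + 1) V) →+ ↥(⋀[P]^(q + 1) V) := AddMonoidHom.mk' (lie d q) (lie_add d q)
    have : lie d q z = ∑ K', (euler (b.repr z K') + (q + 1) • b.repr z K') • b K' := by
      conv_lhs => rw [← b.sum_repr z]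
      show L _ = _
      rw [map_sum]
      refine Finset.sum_congr rfl fun K' _ => ?_
      rw [exteriorPower.basis_apply, exteriorPower.ιMulti_family,
        show (⇑(Pi.basisFun P σ) ∘ ⇑(Set.powersetCard.ofFinEmbEquiv.symm K')) =
          fun a => (Pi.single (Set.powersetCard.ofFinEmbEquiv.symm K' a) (1 : P) : V) from
          funext fun a => Pi.basisFun_apply _ _ _]
      exact lie_gen δ hδ d hd q _ _
    rw [this, b.repr_sum_self]
  have hbij := bijective_euler_add (k := k) (σ := σ) (q + 1) (Nat.succ_pos q)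
  constructor
  · intro x y h
    refine b.repr.injective (Finsupp.ext fun K => hbij.1 ?_)
    show euler _ + _ = euler _ + _
    rw [← hrep, ← hrep, h]
  · intro z
    choose c hc using fun K => hbij.2 (b.repr z K)
    refine ⟨b.equivFun.symm c, b.repr.injective (Finsupp.ext fun K => ?_)⟩
    rw [hrep, ← hc K]
    have : b.repr (b.equivFun.symm c) K = c K := congrFun (b.equivFun.apply_symm_apply c) K
    rw [this]

theorem cocycles_le_coboundaries (p : ℕ) : DeRham.cocycles d (p + 1) ≤ DeRham.coboundaries d (p + 1) := by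
  intro z hz
  obtain ⟨x, hx⟩ := (lie_bijective δ hδ d hd p).2 z
  have hzero : ∀ q (w : ↥(⋀[P]^q V)), d (q + 1) (d q w) = 0 := fun q w => LinearMap.congr_fun (hd.2 q) w
  have hcl : lie d (p + 1) (d (p + 1) x) = 0 := by
    rw [lie, hzero, map_zero, add_zero]
    have h1 : d (p + 1) (lie d p x) = 0 := hx ▸ hz
    rwa [lie, map_add, hzero, zero_add] at h1
  have hdx : d (p + 1) x = 0 := (lie_bijective δ hδ d hd (p + 1)).1 (hcl.trans (by simp [lie]))
  refine ⟨contr phi p x, ?_⟩
  rw [lie, hdx, map_zero, add_zero] at hx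
  exact hx

end

end Groth.Agent.FormalPoincareH7
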